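import Groth.Prelude.Def_AlgSp
import Groth.Prelude.Def_Grpd
import Mathlib

/-!
The groupoid scheme of an equivalence relation.
-/

set_option autoImplicit false
set_option linter.style.haveILetI false

universe u

open CategoryTheory CategoryTheory.Limits AlgebraicGeometry

namespace Groth.Agent.SliceEqv

variable {S : Scheme.{u}} {R U : Over S} {s t : R ⟶ U}

theorem arrow_ext (h : AlgSp.IsEqvRel s t) {T : Scheme.{u}} (r r' : T ⟶ R.left)
    (ht : r ≫ t.left = r' ≫ t.left) (hs : r ≫ s.left = r' ≫ s.left) : r = r' :=
  congrArg CommaMorphism.left (h.injective (Over.mk (r ≫ R.hom)) (Over.homMk r rfl)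
    (Over.homMk r' (show r' ≫ R.hom = r ≫ R.hom by
      rw [← Over.w s, ← Category.assoc, ← Category.assoc, hs]))
    (by ext; exact ht) (by ext; exact hs))

/-- Existence of the composed arrow. -/
theorem exists_comp (h : AlgSp.IsEqvRel s t) {T : Scheme.{u}} (r r' : T ⟶ R.left)
    (hr : r ≫ s.left = r' ≫ t.left) :
    ∃ r'' : T ⟶ R.left, r'' ≫ t.left = r ≫ t.left ∧ r'' ≫ s.left = r' ≫ s.left := by
  let T' : Over S := Over.mk (r ≫ R.hom)
  let a : T' ⟶ R := Over.homMk r rfl
  let b : T' ⟶ R := Over.homMk r' (show r' ≫ R.hom = r ≫ R.hom by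
    rw [← Over.w t, ← Category.assoc, ← hr, Category.assoc, Over.w s, Over.w t])
  obtain ⟨c, hc₁, hc₂⟩ := (h.equivalence T').trans ⟨a, rfl, rfl⟩
    (⟨b, by ext; exact hr.symm, rfl⟩ : ∃ x : T' ⟶ R, x ≫ t = a ≫ s ∧ x ≫ s = b ≫ s)
  exact ⟨c.left, congrArg CommaMorphism.left hc₁, congrArg CommaMorphism.left hc₂⟩

theorem exists_unit (h : AlgSp.IsEqvRel s t) {T : Scheme.{u}} (a : T ⟶ U.left) :
    ∃ r : T ⟶ R.left, r ≫ t.left = a ∧ r ≫ s.left = a := by
  obtain ⟨c, h₁, h₂⟩ := (h.equivalence (Over.mk (a ≫ U.hom))).refl (Over.homMk a rfl)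
  exact ⟨c.left, congrArg CommaMorphism.left h₁, congrArg CommaMorphism.left h₂⟩

theorem exists_inv (h : AlgSp.IsEqvRel s t) {T : Scheme.{u}} (r : T ⟶ R.left) :
    ∃ r' : T ⟶ R.left, r' ≫ t.left = r ≫ s.left ∧ r' ≫ s.left = r ≫ t.left := by
  let a : Over.mk (r ≫ R.hom) ⟶ R := Over.homMk r rfl
  obtain ⟨c, h₁, h₂⟩ := (h.equivalence (Over.mk (r ≫ R.hom))).symm ⟨a, rfl, rfl⟩
  exact ⟨c.left, congrArg CommaMorphism.left h₁, congrArg CommaMorphism.left h₂⟩

variable (h : AlgSp.IsEqvRel s t)

theorem inv_s : (exists_inv h (𝟙 R.left)).choose ≫ s.left = t.left :=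
  (exists_inv h (𝟙 R.left)).choose_spec.2.trans (Category.id_comp _)

theorem inv_t : (exists_inv h (𝟙 R.left)).choose ≫ t.left = s.left :=
  (exists_inv h (𝟙 R.left)).choose_spec.1.trans (Category.id_comp _)

/-- The groupoid scheme of an equivalence relation. -/
noncomputable def eqvGrpd : Grpd.GroupoidScheme S where
  U := U.left
  R := R.left
  pU := U.hom
  pR := R.hom
  s := s.left
  t := t.left
  e := (exists_unit h (𝟙 U.left)).choose
  i := (exists_inv h (𝟙 R.left)).choose
  c := (exists_comp h (pullback.fst s.left t.left) (pullback.snd s.left t.left) pullback.condition).choose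
  s_over := Over.w s
  t_over := Over.w t
  comp_s α β e := by
    rw [Category.assoc, (exists_comp h _ _ pullback.condition).choose_spec.2, pullback.lift_snd_assoc]
  comp_t α β e := by
    rw [Category.assoc, (exists_comp h _ _ pullback.condition).choose_spec.1, pullback.lift_fst_assoc]
  assoc α β γ h₁ h₂ := arrow_ext h _ _
    (by simp only [Category.assoc, (exists_comp h _ _ pullback.condition).choose_spec.1, pullback.lift_fst_assoc])
    (by simp only [Category.assoc, (exists_comp h _ _ pullback.condition).choose_spec.2, pullback.lift_snd_assoc])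
  e_s := (exists_unit h _).choose_spec.2
  e_t := (exists_unit h _).choose_spec.1
  comp_e α := arrow_ext h _ _
    (by simp only [Category.assoc, (exists_comp h _ _ pullback.condition).choose_spec.1, pullback.lift_fst_assoc])
    (by simp only [Category.assoc, (exists_comp h _ _ pullback.condition).choose_spec.2, pullback.lift_snd_assoc,
      (exists_unit h _).choose_spec.2, Category.comp_id])
  e_comp α := arrow_ext h _ _
    (by simp only [Category.assoc, (exists_comp h _ _ pullback.condition).choose_spec.1, pullback.lift_fst_assoc,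
      (exists_unit h _).choose_spec.1, Category.comp_id])
    (by simp only [Category.assoc, (exists_comp h _ _ pullback.condition).choose_spec.2, pullback.lift_snd_assoc])
  i_s := (exists_inv h (𝟙 R.left)).choose_spec.2.trans (Category.id_comp _)
  i_t := (exists_inv h (𝟙 R.left)).choose_spec.1.trans (Category.id_comp _)
  comp_i α := arrow_ext h _ _
    (by simp only [Category.assoc, (exists_comp h _ _ pullback.condition).choose_spec.1, pullback.lift_fst_assoc,
      (exists_unit h _).choose_spec.1, Category.comp_id])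
    (by simp only [Category.assoc, (exists_comp h _ _ pullback.condition).choose_spec.2, pullback.lift_snd_assoc,
      (exists_unit h _).choose_spec.2, inv_s h, Category.comp_id])
  i_comp α := arrow_ext h _ _
    (by simp only [Category.assoc, (exists_comp h _ _ pullback.condition).choose_spec.1, pullback.lift_fst_assoc,
      inv_t h, (exists_unit h _).choose_spec.1, Category.comp_id])
    (by simp only [Category.assoc, (exists_comp h _ _ pullback.condition).choose_spec.2, pullback.lift_snd_assoc,
      (exists_unit h _).choose_spec.2, Category.comp_id])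

theorem mono_j : Mono (eqvGrpd h).j := ⟨fun a b e => arrow_ext h a b
  (by
    have := congrArg (fun k => k ≫ pullback.fst (eqvGrpd h).pU (eqvGrpd h).pU) e
    simp only [Category.assoc] at this
    rwa [show (eqvGrpd h).j ≫ pullback.fst _ _ = (eqvGrpd h).t from pullback.lift_fst _ _ _] at this)
  (by
    have := congrArg (fun k => k ≫ pullback.snd (eqvGrpd h).pU (eqvGrpd h).pU) e
    simp only [Category.assoc] at this
    rwa [show (eqvGrpd h).j ≫ pullback.snd _ _ = (eqvGrpd h).s from pullback.lift_snd _ _ _] at this)⟩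

end Groth.Agent.SliceEqv
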