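import Groth.Agent.SliceEqv.Grpd
import Groth.Agent.QuotShLib.Fppf
import Groth.Agent.SchDescent.SheafDesc
import Mathlib

/-!
Restricting an equivalence relation along a morphism meeting all orbits fppf locally does not change the quotient.
-/

set_option autoImplicit false
set_option linter.style.haveILetI false

universe u

open CategoryTheory CategoryTheory.Limits AlgebraicGeometry
open Groth.Agent.SchDescent.SheafDesc

namespace Groth.Agent.SliceEqv

variable {S : Scheme.{u}} {R U : Over S} {s t : R ⟶ U} (h : AlgSp.IsEqvRel s t)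

include h in
theorem exists_restricted {U' : Scheme.{u}} (g : U' ⟶ U.left) [Flat (pullback.snd g t.left ≫ s.left)]
    [LocallyOfFinitePresentation (pullback.snd g t.left ≫ s.left)]
    [Surjective (pullback.snd g t.left ≫ s.left)] :
    ∃ (R₁ U₁ : Over S) (s₁ t₁ : R₁ ⟶ U₁) (g₁ : U₁ ⟶ U) (r₁ : R₁ ⟶ R)
      (ψ : QuotSh.quot Scheme.fppfPrecoverage s₁ t₁ ⟶ QuotSh.quot Scheme.fppfPrecoverage s t),
      AlgSp.IsEqvRel s₁ t₁ ∧ r₁ ≫ s = s₁ ≫ g₁ ∧ r₁ ≫ t = t₁ ≫ g₁ ∧
      (∃ (eU : U₁.left = U') (eR : R₁.left = pullback (pullback.snd g t.left ≫ s.left) g),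
        s₁.left = eqToHom eR ≫ pullback.snd _ g ≫ eqToHom eU.symm ∧
        t₁.left = eqToHom eR ≫ (pullback.fst _ g ≫ pullback.fst g t.left) ≫ eqToHom eU.symm) ∧
      QuotSh.quotπ Scheme.fppfPrecoverage s₁ t₁ ≫ ψ =
        QuotSh.repMap Scheme.fppfPrecoverage g₁ ≫ QuotSh.quotπ Scheme.fppfPrecoverage s t ∧ IsIso ψ := by
  let K := Scheme.fppfPrecoverage.{u}
  let hm := pullback.snd g t.left ≫ s.left
  let U₁ : Over S := Over.mk (g ≫ U.hom)
  let g₁ : U₁ ⟶ U := Over.homMk g rfl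
  let R₁ : Over S := Over.mk ((pullback.snd hm g ≫ g) ≫ U.hom)
  let s₁ : R₁ ⟶ U₁ := Over.homMk (pullback.snd hm g) (Category.assoc _ _ _).symm
  have hmem : ∀ {T : Scheme.{u}} (z : T ⟶ pullback g t.left),
      (z ≫ pullback.fst g t.left) ≫ g ≫ U.hom = (z ≫ hm) ≫ U.hom := fun z => by
    rw [Category.assoc, pullback.condition_assoc, Category.assoc, Category.assoc, Over.w t, Over.w s]
  let t₁ : R₁ ⟶ U₁ := Over.homMk (pullback.fst hm g ≫ pullback.fst g t.left) (by
    show (_ ≫ _) ≫ g ≫ U.hom = _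
    rw [hmem, pullback.condition]; rfl)
  let r₁ : R₁ ⟶ R := Over.homMk (pullback.fst hm g ≫ pullback.snd g t.left) (by
    show (_ ≫ _) ≫ R.hom = (_ ≫ g) ≫ U.hom
    rw [← pullback.condition]
    show _ = (pullback.fst hm g ≫ pullback.snd g t.left ≫ s.left) ≫ U.hom
    rw [Category.assoc, Category.assoc, Category.assoc, Over.w s])
  have hrs : r₁ ≫ s = s₁ ≫ g₁ := by
    ext; exact (Category.assoc _ _ _).trans pullback.condition
  have hrt : r₁ ≫ t = t₁ ≫ g₁ := by
    ext
    show (_ ≫ _) ≫ t.left = (_ ≫ _) ≫ g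
    rw [Category.assoc, Category.assoc, pullback.condition]
  -- arrows of the restriction
  have hmk : ∀ {T : Over S} (r : T ⟶ R) (a b : T ⟶ U₁), r ≫ t = a ≫ g₁ → r ≫ s = b ≫ g₁ →
      ∃ x : T ⟶ R₁, x ≫ t₁ = a ∧ x ≫ s₁ = b ∧ x ≫ r₁ = r := by
    intro T r a b hra hrb
    let z : T.left ⟶ pullback g t.left := pullback.lift a.left r.left (congrArg CommaMorphism.left hra).symm
    let x : T.left ⟶ pullback hm g := pullback.lift z b.left (by
      show z ≫ pullback.snd g t.left ≫ s.left = b.left ≫ g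
      rw [pullback.lift_snd_assoc]; exact congrArg CommaMorphism.left hrb)
    refine ⟨Over.homMk x (show x ≫ (pullback.snd hm g ≫ g) ≫ U.hom = T.hom by
      rw [Category.assoc, pullback.lift_snd_assoc]; exact Over.w b), ?_, ?_, ?_⟩
    · ext; show x ≫ pullback.fst hm g ≫ pullback.fst g t.left = a.left
      rw [pullback.lift_fst_assoc, pullback.lift_fst]
    · ext; exact pullback.lift_snd _ _ _
    · ext; show x ≫ pullback.fst hm g ≫ pullback.snd g t.left = r.left
      rw [pullback.lift_fst_assoc, pullback.lift_snd]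
  have hinj : ∀ (T : Over S) (x y : T ⟶ R₁), x ≫ t₁ = y ≫ t₁ → x ≫ s₁ = y ≫ s₁ → x = y := by
    intro T x y hxt hxs
    have hr : x ≫ r₁ = y ≫ r₁ := h.injective T _ _
      (by rw [Category.assoc, Category.assoc, hrt, ← Category.assoc, hxt, Category.assoc])
      (by rw [Category.assoc, Category.assoc, hrs, ← Category.assoc, hxs, Category.assoc])
    ext
    apply pullback.hom_ext (h₁ := congrArg CommaMorphism.left hxs)
    apply pullback.hom_ext
    · simpa [t₁] using congrArg CommaMorphism.left hxt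
    · simpa [r₁] using congrArg CommaMorphism.left hr
  have hrel : ∀ (T : Over S) (a b : T ⟶ U₁), (∃ x : T ⟶ R₁, x ≫ t₁ = a ∧ x ≫ s₁ = b) ↔
      ∃ r : T ⟶ R, r ≫ t = a ≫ g₁ ∧ r ≫ s = b ≫ g₁ := by
    intro T a b
    constructor
    · rintro ⟨x, rfl, rfl⟩
      exact ⟨x ≫ r₁, by rw [Category.assoc, hrt, Category.assoc], by rw [Category.assoc, hrs, Category.assoc]⟩
    · rintro ⟨r, hr₁, hr₂⟩
      obtain ⟨x, hx₁, hx₂, -⟩ := hmk r a b hr₁ hr₂
      exact ⟨x, hx₁, hx₂⟩
  have h₁ : AlgSp.IsEqvRel s₁ t₁ := ⟨hinj, fun T =>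
    { refl := fun a => (hrel T a a).2 ((h.equivalence T).refl _)
      symm := fun {a b} hab => (hrel T b a).2 ((h.equivalence T).symm ((hrel T a b).1 hab))
      trans := fun {a b c} hab hbc => (hrel T a c).2
        ((h.equivalence T).trans ((hrel T a b).1 hab) ((hrel T b c).1 hbc)) }⟩
  let π := QuotSh.quotπ K s t
  let π' := QuotSh.quotπ K s₁ t₁
  have hψ : QuotSh.repMap K s₁ ≫ QuotSh.repMap K g₁ ≫ π = QuotSh.repMap K t₁ ≫ QuotSh.repMap K g₁ ≫ π := by
    rw [← Category.assoc, ← repMap_comp, ← hrs, ← Category.assoc (QuotSh.repMap K t₁), ← repMap_comp, ← hrt,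
      repMap_comp, repMap_comp, Category.assoc, Category.assoc, QuotSh.quot_condition]
  let ψ : QuotSh.quot K s₁ t₁ ⟶ QuotSh.quot K s t := coequalizer.desc _ hψ
  have hπψ : π' ≫ ψ = QuotSh.repMap K g₁ ≫ π := coequalizer.π_desc _ _
  refine ⟨R₁, U₁, s₁, t₁, g₁, r₁, ψ, h₁, hrs, hrt, ⟨rfl, rfl, ?_, ?_⟩, hπψ, ?_⟩
  · simp [s₁, hm]
  · simp [t₁, hm]
  -- the covering
  let Z : Over S := Over.mk (hm ≫ U.hom)
  let q : Z ⟶ U := Over.homMk hm rfl
  let a : Z ⟶ U₁ := Over.homMk (pullback.fst g t.left) (by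
    show pullback.fst g t.left ≫ g ≫ U.hom = hm ≫ U.hom
    simpa using hmem (𝟙 _))
  let ρ : Z ⟶ R := Over.homMk (pullback.snd g t.left) (by
    show pullback.snd g t.left ≫ R.hom = (pullback.snd g t.left ≫ s.left) ≫ U.hom
    rw [Category.assoc, Over.w s])
  have hρt : ρ ≫ t = a ≫ g₁ := by ext; exact pullback.condition.symm
  have hρs : ρ ≫ s = q := by ext; rfl
  haveI : Flat q.left := ‹Flat (pullback.snd g t.left ≫ s.left)›
  haveI : LocallyOfFinitePresentation q.left :=
    ‹LocallyOfFinitePresentation (pullback.snd g t.left ≫ s.left)›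
  haveI : Surjective q.left := ‹Surjective (pullback.snd g t.left ≫ s.left)›
  let R₀ : Over S := Over.mk (pullback.fst q.left q.left ≫ Z.hom)
  let p₁ : R₀ ⟶ Z := Over.homMk (pullback.fst q.left q.left) rfl
  let p₂ : R₀ ⟶ Z := Over.homMk (pullback.snd q.left q.left) (by
    show pullback.snd q.left q.left ≫ Z.hom = pullback.fst q.left q.left ≫ Z.hom
    rw [← Over.w q, pullback.condition_assoc])
  have hkp : IsKernelPair q p₁ p₂ := QuotShLib.isKernelPair_of_left (IsPullback.of_hasPullback q.left q.left)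
  have hepi : Epi (QuotSh.repMap K q) := QuotShLib.epi_repMap K (QuotShLib.isQuotient_fppf hkp)
  -- points of the cover over the same point have the same image in the quotient
  have hsame : ∀ {T : Over S} (z₁ z₂ : T ⟶ Z), (∃ r : T ⟶ R, r ≫ t = z₁ ≫ q ∧ r ≫ s = z₂ ≫ q) →
      QuotSh.repMap K (z₁ ≫ a) ≫ π' = QuotSh.repMap K (z₂ ≫ a) ≫ π' := by
    intro T z₁ z₂ hz
    have e₁ : ∃ r : T ⟶ R, r ≫ t = (z₁ ≫ a) ≫ g₁ ∧ r ≫ s = z₁ ≫ q :=
      ⟨z₁ ≫ ρ, by rw [Category.assoc, hρt, Category.assoc], by rw [Category.assoc, hρs]⟩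
    have e₂ : ∃ r : T ⟶ R, r ≫ t = (z₂ ≫ a) ≫ g₁ ∧ r ≫ s = z₂ ≫ q :=
      ⟨z₂ ≫ ρ, by rw [Category.assoc, hρt, Category.assoc], by rw [Category.assoc, hρs]⟩
    obtain ⟨x, hx₁, hx₂⟩ := (hrel T _ _).2
      ((h.equivalence T).trans ((h.equivalence T).trans e₁ hz) ((h.equivalence T).symm e₂))
    rw [← hx₁, ← hx₂, repMap_comp, repMap_comp, Category.assoc, Category.assoc, QuotSh.quot_condition]
  obtain ⟨σ, hσ, -⟩ := QuotShLib.existsUnique_fac K
    (QuotShLib.generate_singleton_mem_J q.left.singleton_mem_fppfPrecoverage) hkp (QuotSh.repMap K a ≫ π') (by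
      rw [← Category.assoc, ← Category.assoc, ← repMap_comp, ← repMap_comp]
      exact hsame p₁ p₂ (by rw [hkp.w]; exact (h.equivalence R₀).refl _))
  -- σ is invariant
  have hσst : QuotSh.repMap K s ≫ σ = QuotSh.repMap K t ≫ σ := by
    let P : Over S := Over.mk (pullback.snd q.left s.left ≫ R.hom)
    let b : P ⟶ R := Over.homMk (pullback.snd q.left s.left) rfl
    let z₁ : P ⟶ Z := Over.homMk (pullback.fst q.left s.left) (by
      show pullback.fst q.left s.left ≫ Z.hom = pullback.snd q.left s.left ≫ R.hom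
      rw [← Over.w q, pullback.condition_assoc, Over.w s])
    haveI : Flat b.left := MorphismProperty.pullback_snd (P := @Flat) _ _ inferInstance
    haveI : LocallyOfFinitePresentation b.left :=
      MorphismProperty.pullback_snd (P := @LocallyOfFinitePresentation) _ _ inferInstance
    haveI : Surjective b.left := MorphismProperty.pullback_snd (P := @Surjective) _ _ inferInstance
    let P₀ : Over S := Over.mk (pullback.fst b.left b.left ≫ P.hom)
    let c₁ : P₀ ⟶ P := Over.homMk (pullback.fst b.left b.left) rfl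
    let c₂ : P₀ ⟶ P := Over.homMk (pullback.snd b.left b.left) (by
      show pullback.snd b.left b.left ≫ P.hom = pullback.fst b.left b.left ≫ P.hom
      rw [← Over.w b, pullback.condition_assoc])
    haveI : Epi (QuotSh.repMap K b) := QuotShLib.epi_repMap K (QuotShLib.isQuotient_fppf
      (QuotShLib.isKernelPair_of_left (IsPullback.of_hasPullback b.left b.left) : IsKernelPair b c₁ c₂))
    have hz₁ : z₁ ≫ q = b ≫ s := by ext; exact pullback.condition
    -- the translated point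
    obtain ⟨r, hr₁, hr₂⟩ := (h.equivalence P).trans
      (⟨z₁ ≫ ρ, by rw [Category.assoc, hρt, Category.assoc], by rw [Category.assoc, hρs, hz₁]⟩ :
        ∃ r : P ⟶ R, r ≫ t = (z₁ ≫ a) ≫ g₁ ∧ r ≫ s = b ≫ s)
      ((h.equivalence P).symm (⟨b, rfl, rfl⟩ : ∃ r : P ⟶ R, r ≫ t = b ≫ t ∧ r ≫ s = b ≫ s))
    let z₂' : P.left ⟶ pullback g t.left := pullback.lift (z₁ ≫ a).left r.left
      (congrArg CommaMorphism.left hr₁).symm
    let z₂ : P ⟶ Z := Over.homMk z₂' (show z₂' ≫ (pullback.snd g t.left ≫ s.left) ≫ U.hom = P.hom by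
      rw [Category.assoc, pullback.lift_snd_assoc, Over.w s]; exact Over.w r)
    have hz₂a : z₂ ≫ a = z₁ ≫ a := by ext; exact pullback.lift_fst _ _ _
    have hz₂q : z₂ ≫ q = b ≫ t := by
      ext
      show z₂' ≫ pullback.snd g t.left ≫ s.left = _
      rw [pullback.lift_snd_assoc]; exact congrArg CommaMorphism.left hr₂
    rw [← cancel_epi (QuotSh.repMap K b), ← Category.assoc, ← Category.assoc, ← repMap_comp, ← repMap_comp,
      ← hz₁, ← hz₂q, repMap_comp, repMap_comp, Category.assoc, Category.assoc, hσ, ← Category.assoc,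
      ← Category.assoc, ← repMap_comp, ← repMap_comp, hz₂a]
  let φ : QuotSh.quot K s t ⟶ QuotSh.quot K s₁ t₁ := coequalizer.desc σ hσst
  have hπφ : π ≫ φ = σ := coequalizer.π_desc _ _
  have hgσ : QuotSh.repMap K g₁ ≫ σ = π' := by
    obtain ⟨r, hr₁, hr₂⟩ := (h.equivalence U₁).refl g₁
    let z' : U₁.left ⟶ pullback g t.left := pullback.lift (𝟙 _) r.left
      (by rw [Category.id_comp]; exact (congrArg CommaMorphism.left hr₁).symm)
    let z : U₁ ⟶ Z := Over.homMk z' (show z' ≫ (pullback.snd g t.left ≫ s.left) ≫ U.hom = U₁.hom by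
      rw [Category.assoc, pullback.lift_snd_assoc, Over.w s]; exact Over.w r)
    have hzq : z ≫ q = g₁ := by
      ext
      show z' ≫ pullback.snd g t.left ≫ s.left = g
      rw [pullback.lift_snd_assoc]; exact congrArg CommaMorphism.left hr₂
    have hza : z ≫ a = 𝟙 U₁ := by ext; exact pullback.lift_fst _ _ _
    rw [← hzq, repMap_comp, Category.assoc, hσ, ← Category.assoc, ← repMap_comp, hza]
    show _ ≫ π' = π'
    rw [QuotSh.repMap, show (yoneda.map (𝟙 U₁)) = 𝟙 _ from yoneda.map_id _, Functor.whiskerRight_id',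
      CategoryTheory.Functor.map_id, Category.id_comp]
  haveI : IsSplitMono ψ := ⟨⟨⟨φ, coequalizer.hom_ext (by
    show π' ≫ ψ ≫ φ = π' ≫ 𝟙 _
    rw [reassoc_of% hπψ, hπφ, hgσ, Category.comp_id])⟩⟩⟩
  have hfac : QuotSh.repMap K q ≫ π = QuotSh.repMap K a ≫ π' ≫ ψ := by
    rw [hπψ, ← Category.assoc, ← repMap_comp, ← hρt, ← hρs, repMap_comp, repMap_comp, Category.assoc,
      Category.assoc, QuotSh.quot_condition]
  haveI : Epi π := inferInstanceAs (Epi (coequalizer.π _ _))
  haveI : Epi (QuotSh.repMap K q ≫ π) := epi_comp _ _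
  haveI : Epi ψ := by
    refine epi_of_epi_fac (f := QuotSh.repMap K a ≫ π') (h := QuotSh.repMap K q ≫ π) ?_
    rw [hfac, Category.assoc]
  exact isIso_of_epi_of_isSplitMono ψ

end Groth.Agent.SliceEqv
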